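import Groth.Agent.FinSurjLib.Extend
import Groth.Agent.UOpenLib.Criterion
import Groth.Agent.MiscFlat6.EqualizerDom
import Groth.Agent.ChowLib.SchDom
import Groth.Agent.S0415
import Groth.Agent.S0416
import Groth.Prelude.Def_HTop2

/-!
# Morphisms out of universal homeomorphisms factor through finite ones
-/

set_option autoImplicit false
set_option linter.style.haveILetI false
universe u

open CategoryTheory CategoryTheory.Limits AlgebraicGeometry

namespace AWNFactorLib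

/-- Properties of finite morphisms inherited from a universal homeomorphism factoring through them. -/
theorem image_univHomeo {T' Z T : Scheme.{u}} (h : T' ⟶ Z) (π : Z ⟶ T) [IsFinite π]
    (ν : T' ⟶ T) (hν : FlatMor.IsUnivHomeo ν) (w : h ≫ π = ν) [QuasiCompact h] :
    IsFinite (h.imageι ≫ π) ∧ FlatMor.IsUnivHomeo (h.imageι ≫ π) ∧ h.toImage ≫ h.imageι ≫ π = ν ∧
      (HTop.ResidueFieldsIso ν → HTop.ResidueFieldsIso (h.imageι ≫ π)) := by
  obtain ⟨hint, huinj, -⟩ := (Groth.Agent.S0415.result ν).1 hν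
  have hfac : h.toImage ≫ h.imageι ≫ π = ν := by rw [Scheme.Hom.toImage_imageι_assoc, w]
  haveI : IsIntegralHom (h.toImage ≫ h.imageι ≫ π) := by rw [hfac]; exact hint
  haveI : IsIntegralHom h.toImage := IsIntegralHom.of_comp h.toImage (h.imageι ≫ π)
  haveI : UniversallyInjective (h.toImage ≫ h.imageι ≫ π) := by rw [hfac]; exact huinj
  haveI : UniversallyInjective h.toImage := by
    refine ((tfae_universallyInjective h.toImage).out 0 1 :).2 fun K _ g₁ g₂ e => ?_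
    exact (((tfae_universallyInjective (h.toImage ≫ h.imageι ≫ π)).out 0 1 :).1 ‹_›) K
      (show g₁ ≫ _ = g₂ ≫ _ by
        rw [← Category.assoc, ← Category.assoc g₂]
        exact congrArg (· ≫ h.imageι ≫ π) e)
  haveI : Surjective h.toImage := ⟨fun y => by
    have h1 : DenseRange h.toImage := h.toImage.denseRange
    rw [denseRange_iff_closure_range, h.toImage.isClosedMap.isClosed_range.closure_eq] at h1
    exact h1.ge (Set.mem_univ y)⟩
  have hh : FlatMor.IsUnivHomeo h.toImage := (Groth.Agent.S0415.result _).2 ⟨‹_›, ‹_›, ‹_›⟩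
  refine ⟨inferInstance, (Groth.Agent.S0416.result h.toImage (h.imageι ≫ π)).1 (by rw [hfac]; exact hν) hh,
    hfac, fun hres y => ?_⟩
  obtain ⟨x, rfl⟩ := h.toImage.surjective y
  have h1 : Function.Bijective ((h.toImage ≫ h.imageι ≫ π).residueFieldMap x) := by
    have e : ∀ (g : T' ⟶ T), g = ν → Function.Bijective (g.residueFieldMap x) := fun g hg => by
      subst hg
      haveI := hres x
      exact ConcreteCategory.bijective_of_isIso _
    exact e _ hfac
  rw [Scheme.residueFieldMap_comp] at h1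
  refine (ConcreteCategory.isIso_iff_bijective _).2 ⟨RingHom.injective ((h.imageι ≫ π).residueFieldMap (h.toImage x)).hom, fun z => ?_⟩
  obtain ⟨a, ha⟩ := h1.2 (h.toImage.residueFieldMap x z)
  exact ⟨a, (h.toImage.residueFieldMap x).hom.injective ha⟩

variable {S X T T' : Scheme.{u}} [AlgebraicGeometry.IsNoetherian S] [AlgebraicGeometry.IsNoetherian T] (fX : X ⟶ S) [LocallyOfFiniteType fX]
  (fT : T ⟶ S) (ν : T' ⟶ T)

theorem exists_factor (hν : FlatMor.IsUnivHomeo ν) (g : T' ⟶ X) (hg : g ≫ fX = ν ≫ fT) :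
    ∃ (T₁ : Scheme.{u}) (π : T₁ ⟶ T) (_ : IsFinite π) (_ : FlatMor.IsUnivHomeo π)
      (_ : HTop.ResidueFieldsIso ν → HTop.ResidueFieldsIso π) (g₁ : T₁ ⟶ X) (h : T' ⟶ T₁),
      h ≫ π = ν ∧ g₁ ≫ fX = π ≫ fT ∧ h ≫ g₁ = g := by
  haveI : IsIntegralHom ν := ((Groth.Agent.S0415.result ν).1 hν).1
  obtain ⟨I, _, _, D, t, c, hc, e, hfin, -, haff, hcs, hqs, hct⟩ := FinSurjLib.exists_finite_diagram ν
  haveI : ∀ {i j : I} (a : i ⟶ j), IsAffineHom (D.map a) := haff
  haveI := hcs; haveI := hqs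
  haveI : LocallyOfFinitePresentation fX := UOpenLib.locallyOfFinitePresentation_of_isLocallyNoetherian fX
  let t' : D ⟶ (Functor.const I).obj S :=
    { app := fun i => t.app i ≫ fT
      naturality := fun i j a => by
        rw [← Category.assoc, t.naturality a, Category.assoc]
        simp }
  obtain ⟨i, g₀, hg₀, hg₀'⟩ := Scheme.exists_π_app_comp_eq_of_locallyOfFinitePresentation D t' fX c hc
    (e.hom ≫ g) (by
      ext i : 2
      show c.π.app i ≫ t.app i ≫ fT = (e.hom ≫ g) ≫ fX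
      rw [reassoc_of% (hct i), Category.assoc, hg])
  let h₀ : T' ⟶ D.obj i := e.inv ≫ c.π.app i
  have w : h₀ ≫ t.app i = ν := by rw [Category.assoc, hct, Iso.inv_hom_id_assoc]
  haveI : IsFinite (t.app i) := hfin i
  haveI : QuasiCompact (h₀ ≫ t.app i) := by rw [w]; infer_instance
  haveI : QuasiCompact h₀ := QuasiCompact.of_comp h₀ (t.app i)
  obtain ⟨h1, h2, h3, h4⟩ := image_univHomeo h₀ (t.app i) ν hν w
  refine ⟨h₀.image, h₀.imageι ≫ t.app i, h1, h2, h4, h₀.imageι ≫ g₀, h₀.toImage, h3, ?_, ?_⟩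
  · rw [Category.assoc, hg₀']
    exact (Category.assoc _ _ _).symm
  · rw [Scheme.Hom.toImage_imageι_assoc, Category.assoc, hg₀, Iso.inv_hom_id_assoc]

omit [AlgebraicGeometry.IsNoetherian S] [AlgebraicGeometry.IsNoetherian T] [LocallyOfFiniteType fX] in
theorem exists_common [IsSeparated fX] (hν : FlatMor.IsUnivHomeo ν) {T₁ T₂ : Scheme.{u}} (π₁ : T₁ ⟶ T)
    (π₂ : T₂ ⟶ T) [IsFinite π₁] [IsFinite π₂] (g₁ : T₁ ⟶ X) (g₂ : T₂ ⟶ X) (h₁ : T' ⟶ T₁) (h₂ : T' ⟶ T₂)
    (e₁ : g₁ ≫ fX = π₁ ≫ fT) (e₂ : g₂ ≫ fX = π₂ ≫ fT) (k₁ : h₁ ≫ π₁ = ν) (k₂ : h₂ ≫ π₂ = ν)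
    (he : h₁ ≫ g₁ = h₂ ≫ g₂) :
    ∃ (T₃ : Scheme.{u}) (π₃ : T₃ ⟶ T) (_ : IsFinite π₃) (_ : FlatMor.IsUnivHomeo π₃)
      (_ : HTop.ResidueFieldsIso ν → HTop.ResidueFieldsIso π₃)
      (a₁ : T₃ ⟶ T₁) (a₂ : T₃ ⟶ T₂), a₁ ≫ π₁ = π₃ ∧ a₂ ≫ π₂ = π₃ ∧ a₁ ≫ g₁ = a₂ ≫ g₂ := by
  haveI : IsIntegralHom ν := ((Groth.Agent.S0415.result ν).1 hν).1
  let h : T' ⟶ pullback π₁ π₂ := pullback.lift h₁ h₂ (k₁.trans k₂.symm)
  let π : pullback π₁ π₂ ⟶ T := pullback.fst π₁ π₂ ≫ π₁
  haveI : IsFinite π := inferInstance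
  have w : h ≫ π = ν := by rw [pullback.lift_fst_assoc, k₁]
  haveI : QuasiCompact (h ≫ π) := by rw [w]; infer_instance
  haveI : QuasiCompact h := QuasiCompact.of_comp h π
  obtain ⟨f1, f2, -, f4⟩ := image_univHomeo h π ν hν w
  refine ⟨h.image, h.imageι ≫ π, f1, f2, f4, h.imageι ≫ pullback.fst π₁ π₂, h.imageι ≫ pullback.snd π₁ π₂,
    Category.assoc _ _ _, ?_, ?_⟩
  · rw [Category.assoc, ← pullback.condition]
  · refine MiscFlat6.ext_of_isSchemeTheoreticallyDominant h.toImage fX _ _ ?_ ?_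
    · simp only [Category.assoc, e₁, e₂]
      rw [pullback.condition_assoc]
    · simp only [Category.assoc]
      rw [Scheme.Hom.toImage_imageι_assoc, Scheme.Hom.toImage_imageι_assoc, pullback.lift_fst_assoc,
        pullback.lift_snd_assoc, he]

end AWNFactorLib
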